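import Cfsg.Agent.Spor.He2058.U.D0

set_option autoImplicit false
set_option maxRecDepth 100000000
set_option Elab.async false

namespace Cfsg.Agent.Spor.He2058.U

theorem rel3 : U.rel 12 [5, 7, 5, 7, 5, 7, 5, 7, 11, 7, 5, 7, 5, 7, 5, 7, 5, 7, 11, 7] 0 12 = true := by decide +kernel

theorem rel4 : U.rel 12 [9, 7, 5, 7, 5, 9, 7, 5, 7, 9, 7, 5, 7, 5, 7] 0 12 = true := by decide +kernel

theorem rel5 : U.rel 12 [9, 7, 5, 7, 11, 7, 5, 9, 7, 11, 5, 7, 9, 11, 5, 7, 5, 7, 11, 7, 5] 0 12 = true := by decide +kernel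

theorem rel6 : U.rel 12 [9, 19, 9, 19] 0 12 = true := by decide +kernel

theorem rel7 : U.rel 12 [7, 19, 7, 19] 0 12 = true := by decide +kernel

theorem rel8 : U.rel 12 [5, 19, 5, 20] 0 12 = true := by decide +kernel

theorem rel9 : U.rel 12 [11, 19, 11, 19, 11, 19] 0 12 = true := by decide +kernel

theorem rel10 : U.rel 12 [19, 19, 19] 0 12 = true := by decide +kernel

theorem sd11 : U.sends [5] 1 3 = true := by decide +kernel

end Cfsg.Agent.Spor.He2058.U
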