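import Cfsg.Agent.Spor.Prim
import Cfsg.Agent.Spor.He2058.Main
import Cfsg.Agent.Spor.He2058.U.C0
import Cfsg.Agent.Spor.TT2

set_option autoImplicit false
set_option maxRecDepth 100000000
set_option Elab.async false

namespace Cfsg.Agent.Spor.He2058.U

theorem hU : U.Ok 12 := U.ok_of 12 (show AllP (fun n => Net.okb 12 n = true) [n0, n1, n2, n3, n4, n5, n6, n7, n8, n9] from AllP.cons ok0 (AllP.cons ok1 (AllP.cons ok2 (AllP.cons ok3 (AllP.cons ok4 (AllP.cons ok5 (AllP.cons ok6 (AllP.cons ok7 (AllP.cons ok8 (AllP.cons ok9 (AllP.nil)))))))))))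

theorem hfP : ∀ j < 7, U.fP [1, 3, 5, 7, 9, 11, 13] j = fP j := by
  intro j hj
  interval_cases j <;> rfl
theorem eG : gsub 7 fP = U.lsub W1 := (gsub_congr hfP).symm.trans (lsub_eq_gsub U [1, 3, 5, 7, 9, 11, 13])
theorem upz1 : ev (atm 7 fP) [0] = U.τ 1 := pz1
theorem upz3 : ev (atm 7 fP) [2] = U.τ 3 := pz2
theorem upz5 : ev (atm 7 fP) [4] = U.τ 5 := pz3
theorem upz7 : ev (atm 7 fP) [6] = U.τ 7 := pz4
theorem upz9 : ev (atm 7 fP) [8] = U.τ 9 := pz5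
theorem upz11 : ev (atm 7 fP) [10] = U.τ 11 := pz6
theorem upz13 : ev (atm 7 fP) [12] = U.τ 13 := pz7
theorem upz15 : ev (atm 7 fP) [0, 2, 0, 2] = U.τ 15 := pz8
theorem upz17 : ev (atm 7 fP) [2, 4, 6, 8] = U.τ 17 := pz10
theorem upz19 : ev (atm 7 fP) [2, 4, 6, 8, 2, 4, 6, 8, 2, 4, 6, 8, 2, 4, 6, 8, 2, 4, 6, 8, 2, 4, 6, 8, 2, 4, 6, 8] = U.τ 19 := pz12
theorem eH : wsub 7 fP BW = U.lsub W2 :=
  lsub_eq_of_all₂ (show List.Forall₂ _ [[0], [4], [6], [8], [10], [0, 2, 0, 2], [2, 4, 6, 8, 2, 4, 6, 8, 2, 4, 6, 8, 2, 4, 6, 8, 2, 4, 6, 8, 2, 4, 6, 8, 2, 4, 6, 8]] [[1], [5], [7], [9], [11], [15], [19]] from List.Forall₂.cons (upz1.trans (one_mul _).symm) (List.Forall₂.cons (upz5.trans (one_mul _).symm) (List.Forall₂.cons (upz7.trans (one_mul _).symm) (List.Forall₂.cons (upz9.trans (one_mul _).symm) (List.Forall₂.cons (upz11.trans (one_mul _).symm)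 (List.Forall₂.cons (upz15.trans (one_mul _).symm) (List.Forall₂.cons (upz19.trans (one_mul _).symm) (List.Forall₂.nil))))))))
theorem vpz1 : PZ U (atm 7 fP) EXU 1 := pz1
theorem vpz2 : PZ U (atm 7 fP) EXU 2 := PZ.of_inv hiv vpz1 (by decide +kernel)
theorem vpz3 : PZ U (atm 7 fP) EXU 3 := pz2
theorem vpz4 : PZ U (atm 7 fP) EXU 4 := PZ.of_inv hiv vpz3 (by decide +kernel)
theorem vpz5 : PZ U (atm 7 fP) EXU 5 := pz3
theorem vpz6 : PZ U (atm 7 fP) EXU 6 := PZ.of_inv hiv vpz5 (by decide +kernel)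
theorem vpz7 : PZ U (atm 7 fP) EXU 7 := pz4
theorem vpz8 : PZ U (atm 7 fP) EXU 8 := PZ.of_inv hiv vpz7 (by decide +kernel)
theorem vpz9 : PZ U (atm 7 fP) EXU 9 := pz5
theorem vpz10 : PZ U (atm 7 fP) EXU 10 := PZ.of_inv hiv vpz9 (by decide +kernel)
theorem vpz11 : PZ U (atm 7 fP) EXU 11 := pz6
theorem vpz12 : PZ U (atm 7 fP) EXU 12 := PZ.of_inv hiv vpz11 (by decide +kernel)
theorem vpz13 : PZ U (atm 7 fP) EXU 13 := pz7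
theorem vpz14 : PZ U (atm 7 fP) EXU 14 := PZ.of_inv hiv vpz13 (by decide +kernel)
theorem vpz15 : PZ U (atm 7 fP) EXU 15 := pz8
theorem vpz16 : PZ U (atm 7 fP) EXU 16 := PZ.of_inv hiv vpz15 (by decide +kernel)
theorem vpz17 : PZ U (atm 7 fP) EXU 17 := pz10
theorem vpz18 : PZ U (atm 7 fP) EXU 18 := PZ.of_inv hiv vpz17 (by decide +kernel)
theorem vpz19 : PZ U (atm 7 fP) EXU 19 := pz12
theorem vpz20 : PZ U (atm 7 fP) EXU 20 := PZ.of_inv hiv vpz19 (by decide +kernel)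
theorem hPZU : AllP (PZ U (atm 7 fP) EXU) LU :=
  show AllP (PZ U (atm 7 fP) EXU) [1, 2, 3, 4, 5, 6, 7, 8, 9, 10, 11, 12, 13, 14, 15, 16, 17, 18, 19, 20] from AllP.cons vpz1 (AllP.cons vpz2 (AllP.cons vpz3 (AllP.cons vpz4 (AllP.cons vpz5 (AllP.cons vpz6 (AllP.cons vpz7 (AllP.cons vpz8 (AllP.cons vpz9 (AllP.cons vpz10 (AllP.cons vpz11 (AllP.cons vpz12 (AllP.cons vpz13 (AllP.cons vpz14 (AllP.cons vpz15 (AllP.cons vpz16 (AllP.cons vpz17 (AllP.cons vpz18 (AllP.cons vpz19 (AllP.cons vpz20 (AllP.nil))))))))))))))))))))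
theorem hXN : ∀ l ∈ XN, ev (atm 7 fP) l = 1 :=
  relAll_sound hiv (W := [[5, 7, 5, 7, 5, 7, 5, 7, 11, 7, 5, 7, 5, 7, 5, 7, 5, 7, 11, 7], [9, 7, 5, 7, 5, 9, 7, 5, 7, 9, 7, 5, 7, 5, 7], [9, 7, 5, 7, 11, 7, 5, 9, 7, 11, 5, 7, 9, 11, 5, 7, 5, 7, 11, 7, 5], [9, 19, 9, 19], [7, 19, 7, 19], [5, 19, 5, 20], [11, 19, 11, 19, 11, 19], [19, 19, 19]]) (rules := [⟨[5, 7, 5, 7, 5, 7, 5, 7, 11, 7, 5, 7, 5, 7, 5, 7, 5, 7, 11, 7], [], 0, true⟩, ⟨[9, 7, 5, 7, 5, 9, 7, 5, 7, 9, 7, 5, 7, 5, 7], [], 1, true⟩, ⟨[9, 7, 5, 7, 11, 7, 5, 9, 7, 11, 5, 7, 9, 11, 5, 7, 5, 7, 11, 7, 5], [], 2, true⟩, ⟨[9, 19, 9, 19], [], 3, true⟩, ⟨[7, 19, 7, 19], [], 4, true⟩, ⟨[5, 19, 5, 20], [], 5, true⟩, ⟨[11, 19, 11, 19, 11, 19], [], 6, true⟩, ⟨[19, 19, 19], [], 7, true⟩]) hPZU (AllP.cons (hU.one rel3) (AllP.cons (hU.one rel4) (AllP.cons (hU.one rel5) (AllP.cons (hU.one rel6)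 (AllP.cons (hU.one rel7) (AllP.cons (hU.one rel8) (AllP.cons (hU.one rel9) (AllP.cons (hU.one rel10) (AllP.nil))))))))) (by decide +kernel)
theorem c_ne : ev (atm 7 fP) [4] ≠ 1 :=
  ne_one_of_sends (ev_eq_evA hiv hPZU (by decide +kernel)) (hU.sends sd11) (by decide)

end Cfsg.Agent.Spor.He2058.U
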